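import Cfsg.Agent.H909.PwM.TwoA
import Cfsg.Agent.H909.PwM.FrTwo
import Cfsg.Agent.H979.Ore.BoundZ
import Cfsg.Agent.H979.BTrans
import Cfsg.Agent.H451.Weak.Four
import Cfsg.Agent.ConwayFacts.AutCo1

/-!
# The involutions of the Baby Monster: centralizer bounds (helper96)

* `pair_le` : `|C(w) ∩ C(t)| ≤ 2 ^ 25 |Co₂|` for commuting involutions `w ≠ t` of the Monster, `w` in `2B`;
* `invB` : an involution of `B` is a transposition or its centralizer has order at most `2 ^ 25 |Co₂|`.
-/

set_option autoImplicit false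
set_option maxRecDepth 100000

namespace Cfsg.Agent.SB.Mon

open Subgroup Cfsg
open Cfsg.Agent.BpSpor.MBigModel (MG zz pi chart)
open Cfsg.Agent.MonsterU.Lam2
open Cfsg.Spor (Co1)

theorem index_stab_ge {v : L2} (hv : v ≠ 0) : 98280 ≤ (MulAction.stabilizer Co1 v).index := by
  rw [MulAction.index_stabilizer]
  rcases type_cases v with h | h | h | h
  · exact absurd h hv
  · rw [ConwayFacts.NormL2.orbit_eq (Or.inl rfl) h, ConwayFacts.NormL2.ncard_two]
  · rw [ConwayFacts.NormL2.orbit_eq (Or.inr (Or.inl rfl)) h]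
    exact le_trans (by norm_num) ConwayFacts.NormL2.ncard_three
  · rw [ConwayFacts.NormL2.orbit_eq (Or.inr (Or.inr rfl)) h, ConwayFacts.NormL2.ncard_four]
    norm_num

theorem pair_le_z {t : MG} (h2 : t * t = 1) (h1 : t ≠ 1) (hz : t ≠ zz) (hc : t * zz = zz * t) :
    Nat.card ↥(centralizer ({zz} : Set MG) ⊓ centralizer ({t} : Set MG)) ≤ 2 ^ 25 * 42305421312000 := by
  have hfin := BpSpor.MBigModel.finite
  have f2 : Fact (Nat.Prime 2) := ⟨Nat.prime_two⟩
  let c : centralizer ({zz} : Set MG) := ⟨t, mem_centralizer_singleton_iff.2 hc⟩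
  by_cases hp : pi c = 1
  · have hQ := (chart.pi_eq_one c).1 hp
    have h0 : LThreeMB.KChart.eta MonsterX.KDone.lft t ≠ 0 := fun h => ((chart.eta_zero t hQ).1 h).elim h1 hz
    have hle : (centralizer ({t} : Set MG)).subgroupOf (centralizer ({zz} : Set MG)) ≤
        (MulAction.stabilizer Co1 (LThreeMB.KChart.eta MonsterX.KDone.lft t)).comap pi := by
      intro d hd
      show pi d • _ = _
      rw [← chart.eta_conj d t hQ, mem_centralizer_singleton_iff.1 (mem_subgroupOf.1 hd), mul_inv_cancel_right]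
    have h3 := card_le_of_le hle
    have h4 := ((MulAction.stabilizer Co1 (LThreeMB.KChart.eta MonsterX.KDone.lft t)).comap pi).card_mul_index
    rw [index_comap_of_surjective _ chart.pi_surj, BpSpor.MBigModel.card_cent_z] at h4
    have h5 := Nat.mul_le_mul h3 (index_stab_ge h0)
    rw [h4, ← inf_subgroupOf_left, Nat.card_congr (subgroupOfEquivOfLe inf_le_left).toEquiv] at h5
    omega
  · have ho : orderOf (pi c) = 2 := orderOf_eq_prime (by
      rw [← map_pow, show c ^ 2 = 1 from Subtype.ext (by rw [pow_two]; exact h2), map_one]) hp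
    exact (H979.Ore.BoundZ.bound_z c).trans ((H909.PwM.FrTwo.bd_two ho).trans (by norm_num))

theorem pair_le {w t : MG} (hw : IsConj zz w) (h2 : t * t = 1) (h1 : t ≠ 1) (hz : t ≠ w) (hc : t * w = w * t) :
    Nat.card ↥(centralizer ({w} : Set MG) ⊓ centralizer ({t} : Set MG)) ≤ 2 ^ 25 * 42305421312000 := by
  have hfin := BpSpor.MBigModel.finite
  obtain ⟨g, rfl⟩ := isConj_iff.1 hw
  refine le_trans ?_ (pair_le_z (t := g⁻¹ * t * g) ?_ ?_ ?_ ?_)
  · refine Nat.card_le_card_of_injective (fun x => ⟨g⁻¹ * x * g, mem_centralizer_singleton_iff.2 ?_,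
      mem_centralizer_singleton_iff.2 ?_⟩) fun x y hxy => Subtype.ext ?_
    · have h := mem_centralizer_singleton_iff.1 x.2.1
      calc g⁻¹ * x * g * zz = g⁻¹ * (x * (g * zz * g⁻¹)) * g := by group
        _ = _ := by rw [h]; group
    · have h := mem_centralizer_singleton_iff.1 x.2.2
      calc g⁻¹ * x * g * (g⁻¹ * t * g) = g⁻¹ * (x * t) * g := by group
        _ = _ := by rw [h]; group
    · simpa using congrArg Subtype.val hxy
  · calc g⁻¹ * t * g * (g⁻¹ * t * g) = g⁻¹ * (t * t) * g := by group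
      _ = 1 := by rw [h2]; group
  · intro h
    apply h1
    calc t = g * (g⁻¹ * t * g) * g⁻¹ := by group
      _ = 1 := by rw [h]; group
  · intro h
    apply hz
    rw [← h]
    group
  · calc g⁻¹ * t * g * zz = g⁻¹ * (t * (g * zz * g⁻¹)) * g := by group
      _ = _ := by rw [hc]; group

open Cfsg.Agent.MonsterX Cfsg.Agent.MonsterU Cfsg.Agent.MonsterN Cfsg.Agent.MonsterN.LitInst in
theorem inv_baby : ∃ t : Spor.BabyMonster, ∀ u : Spor.BabyMonster, orderOf u = 2 →
    IsConj t u ∨ Nat.card (centralizer ({u} : Set Spor.BabyMonster)) ≤ 2 ^ 25 * 42305421312000 := by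
  refine CTwoTab.BInst.elim ?_
  intro K iF iT hK hF i1 i2 i3 i4 q y h π f₁ f₂ f₃ f₄ M₁ hq h10 DK Fc hz hcz hcd hL hc5 big hq5 hcard Bs hr
  refine ⟨q f₁, fun u hu => ?_⟩
  set θ := (BB KDone.K KLinkInst.x₀).subtype with hθ
  have hinj : Function.Injective θ := Subtype.val_injective
  have hT : LThreeB.Row.TA (θ (tb KDone.K KLinkInst.x₀)) := LThreeB.Par.ta_iota LitFin.all KDone.lnk KDone.lft
  set τ := tb KDone.K KLinkInst.x₀ with hτ
  have huu : u * u = 1 := by rw [← pow_two, ← hu, pow_orderOf_eq_one]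
  have hu1 : u ≠ 1 := by
    rintro rfl
    rw [orderOf_one] at hu
    omega
  obtain ⟨b, rfl⟩ := hq.surj u
  have h0 : Nat.card (centralizer ({q b} : Set Spor.BabyMonster)) ≤
      Nat.card (centralizer ({b} : Set (BB KDone.K KLinkInst.x₀))) := by
    rcases H451.Weak.Pure.card_ext hq b with h1 | h1 <;> omega
  have hsub : ∀ H : Subgroup MG, (∀ x, x * b = b * x → θ x ∈ H) →
      Nat.card (centralizer ({q b} : Set Spor.BabyMonster)) ≤ Nat.card H := fun H hH =>
    h0.trans (Nat.card_le_card_of_injective (fun x => ⟨θ x, hH x (mem_centralizer_singleton_iff.1 x.2)⟩)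
      fun x y hxy => Subtype.ext (hinj (congrArg (fun z : H => (z : MG)) hxy)))
  have hb1 : b ≠ 1 := fun e => hu1 (by rw [e, map_one])
  have hbt : b ≠ τ := fun e => hu1 (by rw [e, hq.mapz])
  have key : ∀ w, IsConj zz (θ w) → w ≠ τ → (∀ x, x * b = b * x → x * w = w * x) →
      Nat.card (centralizer ({q b} : Set Spor.BabyMonster)) ≤ 2 ^ 25 * 42305421312000 := by
    intro w hw hwt hx
    refine (hsub _ fun x hxb => ?_).trans (pair_le (t := θ τ) hw ?_ ?_ ?_ ?_)
    · exact ⟨mem_centralizer_singleton_iff.2 (by rw [← map_mul, hx x hxb, map_mul]),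
        mem_centralizer_singleton_iff.2 (by rw [← map_mul, hq.comm, map_mul])⟩
    · rw [← map_mul, hq.zz, map_one]
    · exact fun e => hq.zne (hinj (e.trans (map_one θ).symm))
    · exact fun e => hwt (hinj e).symm
    · rw [← map_mul, ← hq.comm, map_mul]
  rcases (hq.ker _).1 (show q (b * b) = 1 by rw [map_mul, huu]) with hbb | hbb
  · rcases Fc.classes b hbb hb1 hbt with h1 | h1 | h1 | h1
    · exact Or.inl (q.map_isConj h1)
    · refine Or.inr (key (τ * b) (hcz.trans (θ.map_isConj (FusionType.conj_mul_t Fc.cen h1)))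
        (fun e => hb1 (mul_eq_left.1 e)) fun x hx => ?_)
      rw [← mul_assoc, hq.comm, mul_assoc, hx, mul_assoc]
    · exact Or.inr (key b (hcz.trans (θ.map_isConj h1)) hbt fun _ hx => hx)
    · exact Or.inr (key b (hcd.trans (θ.map_isConj h1)) hbt fun _ hx => hx)
  · refine Or.inr ((hsub (centralizer {θ b}) fun x hx => mem_centralizer_singleton_iff.2 ?_).trans
      ((H909.PwM.TwoA.card_cent_le (by rw [← map_mul, hbb]) hT).trans (by norm_num)))
    rw [← map_mul, hx, map_mul]

theorem card_cent_equiv {G H : Type*} [Group G] [Group H] (e : G ≃* H) (x : G) :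
    Nat.card (centralizer ({e x} : Set H)) = Nat.card (centralizer ({x} : Set G)) := by
  refine (Nat.card_congr (e.toEquiv.subtypeEquiv fun a => ?_)).symm
  rw [mem_centralizer_singleton_iff, mem_centralizer_singleton_iff]
  exact ⟨fun h => by simpa using congrArg e h, fun h => e.injective (by simpa using h)⟩

/-- **The involutions of the Baby Monster.** -/
theorem invB {L : Type*} [Group L] (h : Spor.IsoB L) : ∃ d : L, orderOf d = 2 ∧
    Nat.card (centralizer ({d} : Set L)) = 306129918735099415756800 ∧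
    (∀ a b : L, IsConj d a → IsConj d b → orderOf (a * b) ≤ 4) ∧
    ∀ u : L, orderOf u = 2 → IsConj d u ∨ Nat.card (centralizer ({u} : Set L)) ≤ 2 ^ 25 * 42305421312000 := by
  obtain ⟨d, hd, hc, h4⟩ := H979.BTrans.exists_trans h
  obtain ⟨e⟩ := h
  obtain ⟨t, ht⟩ := inv_baby
  refine ⟨d, hd, hc, fun a b ha hb => ?_, fun u hu => ?_⟩
  · obtain ⟨g, rfl⟩ := isConj_iff.1 ha
    obtain ⟨k, rfl⟩ := isConj_iff.1 hb
    exact h4 g k
  · have h1 : IsConj t (e d) := (ht _ (by rw [MulEquiv.orderOf_eq, hd])).resolve_right (by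
      rw [card_cent_equiv, hc]; norm_num)
    refine (ht (e u) (by rw [MulEquiv.orderOf_eq, hu])).imp (fun h2 => ?_) fun h2 => by rwa [card_cent_equiv] at h2
    simpa using e.symm.toMonoidHom.map_isConj (h1.symm.trans h2)

end Cfsg.Agent.SB.Mon
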