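import Cfsg.Agent.SB.Mon.B
import Cfsg.Agent.SB.Mon.BInv
import Cfsg.Agent.BMx.Loc
import Cfsg.Agent.H844.Ore.BInv

/-!
# S5765: the Baby Monster, `O_p(S) ≠ 1` for a prime `p ≥ 5` (helper96)

* `seven_two` : `Seven` from a count with two kinds of classes;
* `good_B_five`.
-/

set_option autoImplicit false
set_option maxRecDepth 100000

namespace Cfsg.Agent.SB.Mon

open Subgroup Cfsg Cfsg.Agent.H786.FC

/-- two kinds of classes -/
theorem seven_two {A : Type*} [Group A] [Finite A] {T S : Subgroup A} (D : Set A)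
    (hD : ∀ c ∈ D, ∀ x ∈ T, x⁻¹ * c * x ∈ D) {a n m₁ m₂ : ℕ} (ha : Nat.card ↥(D ∩ S) ≤ a) (hn : Nat.card S ≤ n)
    (h1 : ∀ c ∈ S, c ∈ D → Nat.card ↥(T ⊓ centralizer {c}) ≤ m₁)
    (h2 : ∀ c ∈ S, (orderOf c).Prime → c ∉ D → Nat.card ↥(T ⊓ centralizer {c}) ≤ m₂)
    (num : a * (a * m₁) ^ 4 + n * (n * m₂) ^ 4 + 6 * n * n ^ 4 < Nat.card T ^ 4) : Seven T S := by
  classical
  have h0 : (0 : ℚ) < Nat.card T := by exact_mod_cast Nat.card_pos
  have hw : ∀ {c : A} {k m : ℕ}, meet T S c ≤ k → Nat.card ↥(T ⊓ centralizer {c}) ≤ m →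
      (meet T S c : ℚ) ≤ ((k * m : ℕ) : ℚ) / Nat.card T * cls T c := by
    intro c k m hk hm
    rw [div_mul_eq_mul_div, le_div_iff₀ h0, ← cls_mul_card T c, Nat.cast_mul (Nat.card _), ← mul_assoc]
    exact_mod_cast Nat.mul_le_mul_right _ (Nat.mul_le_mul hk hm)
  refine seven_of_sum (fun c => if c ∈ D then ((a * m₁ : ℕ) : ℚ) / Nat.card T else ((n * m₂ : ℕ) : ℚ) / Nat.card T)
    (fun c hc hp => ?_) ?_
  · split_ifs with hcD
    · refine hw (le_trans (meet_le_of_subset T S c (D ∩ S) fun x hx hs => ⟨hD c hcD x hx, hs⟩) ha) (h1 c hc hcD)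
    · exact hw ((meet_le_card T S c).trans hn) (h2 c hc hp hcD)
  · have e : ∀ c : A, (if c ∈ D then ((a * m₁ : ℕ) : ℚ) / Nat.card T else ((n * m₂ : ℕ) : ℚ) / Nat.card T) ^ 4 *
        (Nat.card T : ℚ) ^ 4 = ((if c ∈ D then (a * m₁) ^ 4 else (n * m₂) ^ 4 : ℕ) : ℚ) := by
      intro c
      split_ifs <;> rw [← mul_pow, div_mul_cancel₀ _ h0.ne', Nat.cast_pow]
    rw [Finset.sum_mul, Finset.sum_congr rfl fun c _ => e c]
    have h3 : ((primeElts S).filter (· ∈ D)).card ≤ a := by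
      rw [← Nat.card_eq_finsetCard]
      refine le_trans (Nat.card_le_card_of_injective
        (fun c : ((primeElts S).filter (· ∈ D)) => (⟨c.1, (Finset.mem_filter.1 c.2).2,
          (mem_primeElts.1 (Finset.mem_filter.1 c.2).1).1⟩ : ↥(D ∩ S)))
        fun a b hab => Subtype.ext (congrArg (fun z : ↥(D ∩ S) => (z : A)) hab)) ha
    have h4 : ((primeElts S).filter (¬ · ∈ D)).card ≤ n :=
      (Finset.card_filter_le _ _).trans ((card_primeElts_lt S).le.trans hn)
    have h5 : Nat.card ↥(S ⊓ T) ≤ n := (card_le_of_le inf_le_left).trans hn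
    have h6 : (∑ c ∈ primeElts S, if c ∈ D then (a * m₁) ^ 4 else (n * m₂) ^ 4) +
        6 * Nat.card S * Nat.card ↥(S ⊓ T) ^ 4 < Nat.card T ^ 4 := by
      rw [Finset.sum_ite, Finset.sum_const, Finset.sum_const, smul_eq_mul, smul_eq_mul]
      refine lt_of_le_of_lt ?_ num
      gcongr
    exact_mod_cast h6

/-- involutions commuting with an element of odd order -/
theorem card_inv_mul_le {G : Type*} [Group G] [Finite G] {D : Set G} {y : G} (hy : Odd (orderOf y))
    (h2 : ∀ d ∈ D, d * d = 1) (hc : ∀ d ∈ D, d * y = y * d) :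
    Nat.card D * orderOf y ≤ Nat.card (centralizer ({y} : Set G)) := by
  rw [← Nat.card_zpowers, ← Nat.card_prod]
  have hz : ∀ z : zpowers y, ∀ d : G, d * y = y * d → Commute d z := by
    rintro ⟨_, k, rfl⟩ d hd
    exact (show Commute d y from hd).zpow_right k
  have hp : ∀ d : D, ∀ z : zpowers y, ((d : G) * z) ^ orderOf y = d := by
    intro d z
    obtain ⟨k, hk⟩ := hy
    have h1 : (z : G) ^ orderOf y = 1 := by
      rw [← Nat.card_zpowers, ← Subgroup.coe_pow, pow_card_eq_one', Subgroup.coe_one]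
    rw [(hz z d (hc d d.2)).mul_pow, h1, mul_one, hk, pow_succ, pow_mul, pow_two, h2 d d.2, one_pow, one_mul]
  refine Nat.card_le_card_of_injective (fun s => ⟨(s.1 : G) * s.2, mem_centralizer_singleton_iff.2 ?_⟩) ?_
  · exact ((show Commute (s.1 : G) y from hc _ s.1.2).mul_left (hz s.2 y rfl).symm).eq
  · rintro ⟨d, z⟩ ⟨d', z'⟩ h
    have h1 : (d : G) * z = d' * z' := congrArg Subtype.val h
    have h3 : (d : G) = d' := by rw [← hp d z, h1, hp]
    rw [h3] at h1
    exact Prod.ext (Subtype.ext h3) (Subtype.ext (mul_left_cancel h1))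

/-- an element of an elementary abelian subgroup centralized by one more factor `p` -/
theorem exists_dvd_cent {G : Type*} [Group G] [Finite G] {p k : ℕ} (hp : p.Prime) {X : Subgroup G} (hX0 : X ≠ ⊥)
    (hX : Nat.card X = p ^ k) (hc : ∀ x ∈ X, ∀ y ∈ X, x * y = y * x) (hd : p ^ (k + 1) ∣ Nat.card G) :
    ∃ x ∈ X, x ≠ 1 ∧ p ^ (k + 1) ∣ Nat.card (centralizer ({x} : Set G)) := by
  have : Fact p.Prime := ⟨hp⟩
  obtain ⟨K, hK, hXK⟩ := Sylow.exists_subgroup_card_pow_succ hd hX
  have : Nontrivial K := Finite.one_lt_card_iff_nontrivial.1 (by rw [hK]; exact Nat.one_lt_pow (by omega) hp.one_lt)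
  have := (IsPGroup.of_card hK).center_nontrivial
  obtain ⟨z, hz⟩ := exists_ne (1 : center K)
  have hzc : ∀ g ∈ K, g * ((z : K) : G) = (z : K) * g := fun g hg =>
    congrArg Subtype.val (mem_center_iff.1 z.2 ⟨g, hg⟩)
  by_cases hzX : ((z : K) : G) ∈ X
  · exact ⟨_, hzX, fun h => hz (Subtype.ext (Subtype.ext h)),
      hK ▸ card_dvd_of_le fun g hg => mem_centralizer_singleton_iff.2 (hzc g hg)⟩
  · obtain ⟨⟨x, hx⟩, hx1⟩ := ne_bot_iff_exists_ne_one.1 hX0
    refine ⟨x, hx, fun h => hx1 (Subtype.ext h), ?_⟩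
    have h1 : X ≤ K ⊓ centralizer {x} := fun g hg => ⟨hXK hg, mem_centralizer_singleton_iff.2 (hc g hg x hx)⟩
    obtain ⟨j, hj, h2⟩ := (Nat.dvd_prime_pow hp).1 (hK ▸ card_dvd_of_le (inf_le_left : K ⊓ centralizer {x} ≤ K))
    refine dvd_trans ?_ (card_dvd_of_le (inf_le_right : K ⊓ centralizer {x} ≤ _))
    rw [h2]
    refine pow_dvd_pow p ?_
    by_contra hcon
    refine hzX ?_
    rw [eq_of_le_of_card_ge h1 (by rw [h2, hX]; exact Nat.pow_le_pow_right hp.pos (by omega))]
    exact ⟨(z : K).2, mem_centralizer_singleton_iff.2 (hzc x (hXK hx)).symm⟩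

open Cfsg.Agent.BMx (BM) in
open Cfsg.Agent.BMx.Loc5 in
theorem seven_baby {S : Subgroup BM} (hS : Group.IsSolvable S) {p : ℕ} (hp : p.Prime) (h5 : 5 ≤ p)
    (hn : ¬ NPar p ⊤ S) (hn2 : ¬ NPar 2 ⊤ S) : Seven ⊤ S := by
  have := fin_BM
  have : IsSimpleGroup BM := S1704.result.1
  have f2 : Fact (Nat.Prime 2) := ⟨Nat.prime_two⟩
  have fp : Fact p.Prime := ⟨hp⟩
  obtain ⟨e⟩ : Nonempty (H819.U33.G ≃* BM) := H604.RB.ThreeB.isoG
  have c5 : ∀ c : BM, (orderOf c).Prime → 5 ≤ orderOf c →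
      Nat.card (centralizer ({c} : Set BM)) ≤ 443520000 := fun c h1 h2 => by
    rw [← card_cent_equiv e.symm]
    exact dat_B.five _ (by rwa [MulEquiv.orderOf_eq]) (by rwa [MulEquiv.orderOf_eq])
  simp only [NPar, not_forall] at hn hn2
  obtain ⟨Y, hYS, hYp, hYn, hY0⟩ := hn
  obtain ⟨X, hXY, hX0, hXn, -, hXc, ⟨r, hr, hXr⟩, -, hXF⟩ := exists_min hS hY0 (hYS.trans inf_le_left) hYn
  obtain ⟨k, hk⟩ := IsPGroup.iff_card.1 (hYp.to_le hXY)
  have ho : ∀ x ∈ X, x ≠ 1 → orderOf x = p := by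
    intro x hx hx1
    have fr : Fact r.Prime := ⟨hr⟩
    have h1 := orderOf_eq_prime (hXr x hx) hx1
    have h2 := X.orderOf_dvd_natCard hx
    rw [h1, hk] at h2
    rw [h1, (Nat.prime_dvd_prime_iff_eq hr hp).1 (hr.dvd_of_dvd_pow h2)]
  have hle : ∀ x ∈ X, Nat.card S ≤ p ^ k * Nat.card ↥(S ⊓ centralizer {x}) := fun x hx =>
    hk ▸ card_le_of_conj fun s hs => hXn s hs x hx
  obtain ⟨⟨y, hy⟩, hy1⟩ := ne_bot_iff_exists_ne_one.1 hX0
  have hyo := ho y hy fun h => hy1 (Subtype.ext h)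
  have hSn : Nat.card S ≤ 8820000000 := by
    by_cases hp5 : p = 5
    · subst hp5
      obtain ⟨W, hWS, hWp, hWn, hW0⟩ := hn2
      obtain ⟨V, hVW, hV0, -, -, -, -, hVF, -⟩ := exists_min hS hW0 (hWS.trans inf_le_left) hWn
      obtain ⟨j, hj⟩ := IsPGroup.iff_card.1 (hWp.to_le hVW)
      obtain ⟨u, hu⟩ := exists_prime_orderOf_dvd_card' (G := V) 2 (by
        rw [hj]
        refine dvd_pow_self _ ?_
        rintro rfl
        exact hV0 (eq_bot_of_card_eq V (by rw [hj, pow_zero])))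
      have hk4 : k ≤ 4 := by
        by_contra hcon
        have h1 : X ≤ centralizer {(u : BM)} := fun x hx => mem_centralizer_singleton_iff.2
          (hXF ⟨u, (hWS (hVW u.2)).1⟩ (hVF u _ u.2) x hx).symm
        rcases H844.Ore.BInv.dvd_pow (n := 5) hp (by norm_num) (by rw [Subgroup.orderOf_coe, hu])
          ((pow_dvd_pow 5 (by omega)).trans (hk ▸ card_dvd_of_le h1)) with h2 | h2 <;> norm_num at h2
      rcases hk4.lt_or_eq with h3 | rfl
      · refine (hle y hy).trans ((Nat.mul_le_mul (Nat.pow_le_pow_right (by norm_num) (Nat.le_of_lt_succ h3))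
          (?_ : _ ≤ 63360000)).trans (by norm_num))
        have hd := card_dvd_of_le (inf_le_right : S ⊓ centralizer {y} ≤ _)
        have h4 := card_le_of_le (inf_le_right : S ⊓ centralizer {y} ≤ _)
        rcases five_cases isoB hyo with h1 | h1 | h1
        · have h2 : Nat.card ↥(S ⊓ centralizer {y}) ∣ 443520000 :=
            hd.trans (Nat.dvd_of_mul_dvd_mul_right two_pos h1)
          have h6 := not_both (H := S ⊓ centralizer {y}) (Group.isSolvable_of_isSolvable_injective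
            (f := inclusion (inf_le_left : S ⊓ centralizer {y} ≤ S)) (inclusion_injective _)) (p := 7) (q := 11)
            (by norm_num) (by norm_num) (by norm_num) (fun h => absurd (h.trans h2) (by norm_num))
            (fun h => absurd (h.trans h2) (by norm_num)) (by norm_num) (by norm_num)
            fun s hs => by rw [BMx.Loc.cent11 hs]; norm_num
          by_cases h7 : 7 ∣ Nat.card ↥(S ⊓ centralizer {y})
          · refine (Nat.le_of_dvd (by norm_num) (Nat.Coprime.dvd_of_dvd_mul_left (n := 40320000) (m := 11)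
              ((Nat.Prime.coprime_iff_not_dvd (by norm_num)).2 (h6 h7)).symm h2)).trans (by norm_num)
          · exact Nat.le_of_dvd (by norm_num) (Nat.Coprime.dvd_of_dvd_mul_left (n := 63360000) (m := 7)
              ((Nat.Prime.coprime_iff_not_dvd (by norm_num)).2 h7).symm h2)
        · have := Nat.le_of_dvd (by norm_num) h1
          omega
        · omega
      · obtain ⟨x, hx, hx1, hd⟩ := exists_dvd_cent hp hX0 hk hXc (by rw [card_BM]; norm_num)
        exact (hle x hx).trans ((Nat.mul_le_mul_left _ ((card_le_of_le inf_le_right).trans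
          (cent5_le' (ho x hx hx1) hd))).trans (by norm_num))
    · have h1 : Nat.card (centralizer ({y} : Set BM)) ≤ 564480 := by
        by_cases h23 : p = 23
        · rw [BMx.Loc.cent23 (hyo.trans h23)]
          norm_num
        · refine H705.OreB.Small.le_small BMx.engBase isoB hp ?_ h23 hyo
          have : p ≠ 6 := fun h6 => absurd (h6 ▸ hp) (by norm_num)
          omega
      exact (hle y hy).trans ((Nat.mul_le_mul (dat_B.pow p k hp h5 (by
        rw [Nat.card_congr e.toEquiv, ← hk]; exact card_subgroup_dvd_card X))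
        ((card_le_of_le inf_le_right).trans h1)).trans (by norm_num))
  obtain ⟨d, hd, hdc, h4, hcl⟩ := invB isoB
  have hdd : ∀ c, IsConj d c → c * c = 1 := by
    intro c hc
    obtain ⟨g, rfl⟩ := isConj_iff.1 hc
    rw [← pow_two, conj_pow, ← hd, pow_orderOf_eq_one, mul_one, mul_inv_cancel]
  refine seven_two {c | IsConj d c} (fun c hc x _ => IsConj.trans hc (isConj_iff.2 ⟨x⁻¹, by rw [inv_inv]⟩))
    (a := 88704000) (m₁ := 306129918735099415756800) (m₂ := 2 ^ 25 * 42305421312000) ?_ hSn (fun c _ hc => ?_)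
    (fun c _ hc hcd => ?_) (by rw [card_top, card_BM]; norm_num)
  · have h1 := card_inv_mul_le (D := {c | IsConj d c} ∩ S) (y := y) (by rw [hyo]; exact hp.odd_of_ne_two (by omega))
      (fun c hc => hdd c hc.1) fun c hc => ?_
    · have h2 := c5 y (hyo ▸ hp) (hyo ▸ h5)
      have h3 := Nat.mul_le_mul_left (Nat.card ↥({c | IsConj d c} ∩ (S : Set BM))) (hyo ▸ h5)
      omega
    · have h2 : c * (y * c * y⁻¹) = c * y * c⁻¹ * y⁻¹ := by rw [inv_eq_of_mul_eq_one_left (hdd c hc.1)]; group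
      have h3 := h4 c (y * c * y⁻¹) hc.1 (IsConj.trans hc.1 (isConj_iff.2 ⟨y, rfl⟩))
      rw [h2] at h3
      by_contra hcon
      rw [ho _ (mul_mem (hXn c hc.2 y hy) (inv_mem hy)) (fun h => hcon (by
        rwa [mul_inv_eq_one, mul_inv_eq_iff_eq_mul] at h))] at h3
      omega
  · rw [top_inf_eq, Blocks.SylowIn.card_centralizer_of_isConj hc, hdc]
  · rw [top_inf_eq]
    rcases prime_cases hc with h1 | h1 | h1
    · exact (hcl c h1).resolve_left hcd
    · exact (H186.U33.card_three isoB h1).trans (by norm_num)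
    · exact (c5 c hc h1).trans (by norm_num)

/-- groups without outer automorphisms -/
theorem good_of_top {G : Type*} [Group G] [IsSimpleGroup G] (hG : ¬ IsMulCommutative G)
    (ho : ∀ α : MulAut G, ∃ g : G, ∀ s, α s = g * s * g⁻¹) :
    ∃ e : MulAut G ≃* G, (InnG G).map e.toMonoidHom = ⊤ := by
  have h1 : InnG G = ⊤ := eq_top_iff.2 fun α _ => (ho α).imp fun g hg => MulEquiv.ext fun s => (hg s).symm
  refine ⟨(MulEquiv.ofBijective MulAut.conj ⟨conj_injective hG, MonoidHom.range_eq_top.1 h1⟩).symm, ?_⟩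
  rw [h1, map_top_of_surjective _ (MulEquiv.surjective _)]

/-- **The Baby Monster, `O_p(S) ≠ 1` for a prime `p ≥ 5`.** -/
theorem good_B_five (K : Type) [Group K] (h : Spor.IsoB K) (S : Subgroup (MulAut K)) (hS : Group.IsSolvable S)
    (hm : MaxInv (InnG K) S) (hp : ∃ p : ℕ, p.Prime ∧ 5 ≤ p ∧ ¬ NPar p (InnG K) S) : Good (InnG K) S := by
  by_cases h2 : NPar 2 (InnG K) S
  · exact rowN_B K h S hS hm h2
  obtain ⟨p, hp, h5, hn⟩ := hp
  obtain ⟨e1⟩ := id h
  have := S1704.result.1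
  have : IsSimpleGroup K := e1.isSimpleGroup
  obtain ⟨e, he⟩ := good_of_top (nc_of_card (by rw [NotCT.Orders.b h]; norm_num)) (H979.BTrans.inner_b h)
  have hT : (InnG K).map (e.trans e1).toMonoidHom = ⊤ := by
    rw [show (e.trans e1).toMonoidHom = e1.toMonoidHom.comp e.toMonoidHom from rfl, ← map_map, he,
      map_top_of_surjective _ e1.surjective]
  refine Or.inr (Seven.of_map (φ := (e.trans e1).toMonoidHom) (e.trans e1).injective ?_)
  rw [hT]
  exact seven_baby (Group.isSolvable_of_surjective (f := (e.trans e1).toMonoidHom.subgroupMap S)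
    (MonoidHom.subgroupMap_surjective _ S)) hp h5 (fun h => hn (NPar.of_map _ (e.trans e1).injective (hT ▸ h)))
    fun h => h2 (NPar.of_map _ (e.trans e1).injective (hT ▸ h))

end Cfsg.Agent.SB.Mon
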