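import Cfsg.Agent.SB.Mon.Odd
import Cfsg.Agent.SP.Mon.NL.Cent
import Cfsg.Agent.H740.OreM.ThreeBd
import Cfsg.Agent.BMx.Base
import Cfsg.Agent.MonsterP.Equiv
import Cfsg.Agent.S2085

/-!
# S5765: the Monster, `O₂(S) = 1` (helper96)

`rowN_M : Spor.IsoM K → RowN 2 K`.
-/

set_option autoImplicit false
set_option maxRecDepth 100000

namespace Cfsg.Agent.SB.Mon

open Subgroup Cfsg Cfsg.Agent.BpSpor.MBigModel Cfsg.Agent.SP.Mon.NL

/-- two primes dividing the order of a solvable subgroup -/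
theorem not_both {G : Type*} [Group G] [Finite G] {H : Subgroup G} (hH : Group.IsSolvable H) {p q : ℕ} (hp : p.Prime)
    (hq : q.Prime) (hpq : p ≠ q) (hp2 : ¬ p ^ 2 ∣ Nat.card H) (hq2 : ¬ q ^ 2 ∣ Nat.card H) (h1 : ¬ q ∣ p - 1)
    (h2 : ¬ p ∣ q - 1) (key : ∀ s : G, orderOf s = q → ¬ p ∣ Nat.card (centralizer ({s} : Set G)))
    (hpd : p ∣ Nat.card H) (hqd : q ∣ Nat.card H) : False := by
  have : Fact p.Prime := ⟨hp⟩
  have : Fact q.Prime := ⟨hq⟩
  obtain ⟨T, s, hs, -, hTi, hTs⟩ := H58.MonThirteen.exists_commuting (p := p) (q := q) (n := 1) (m := 1) hH hpq hqd hp2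
    (fun i a b => by rwa [le_antisymm b a, pow_one]) hq2 (fun i a b => by rwa [le_antisymm b a, pow_one])
  have h3 : p ∣ Nat.card T := by
    rw [← T.card_mul_index] at hpd
    exact (hp.dvd_mul.1 hpd).resolve_right hTi
  obtain ⟨t, ht⟩ := exists_prime_orderOf_dvd_card' p h3
  refine key (s : G) (by rw [Subgroup.orderOf_coe, hs]) ?_
  rw [← ht, ← Subgroup.orderOf_coe, ← Subgroup.orderOf_coe]
  exact Subgroup.orderOf_dvd_natCard _ (mem_centralizer_singleton_iff.2 (congrArg Subtype.val (hTs _ t.2)))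

theorem known : H995.CopEngine.AllKnown.{0} := fun S _ _ h => BMx.engBase.known S h

theorem sol_M {H : Subgroup MG} (hH : Group.IsSolvable H) (hd : Nat.card H ∣ 3 ^ 13 * (448345497600 * 2)) :
    Nat.card H ≤ 18566429578444800 := by
  have := finite
  have k11 : ∀ s : MG, orderOf s = 11 → ¬ 7 ∣ Nat.card (centralizer ({s} : Set MG)) := by
    intro s hs
    have h := cent_exact known (by norm_num) le_rfl hs
    generalize Nat.card (centralizer ({s} : Set MG)) = n at h
    simp only [List.mem_cons, Prod.mk.injEq, List.not_mem_nil, or_false, true_and] at h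
    omega
  have k13 : ∀ s : MG, orderOf s = 13 →
      ¬ 7 ∣ Nat.card (centralizer ({s} : Set MG)) ∧ ¬ 11 ∣ Nat.card (centralizer ({s} : Set MG)) := by
    intro s hs
    have h := cent_exact known (by norm_num) (by norm_num) hs
    generalize Nat.card (centralizer ({s} : Set MG)) = n at h
    simp only [List.mem_cons, Prod.mk.injEq, List.not_mem_nil, or_false, true_and] at h
    omega
  have s7 : ¬ 7 ^ 2 ∣ Nat.card H := fun h => absurd (h.trans hd) (by norm_num)
  have s11 : ¬ 11 ^ 2 ∣ Nat.card H := fun h => absurd (h.trans hd) (by norm_num)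
  have s13 : ¬ 13 ^ 2 ∣ Nat.card H := fun h => absurd (h.trans hd) (by norm_num)
  have a1 := not_both hH (p := 7) (q := 11) (by norm_num) (by norm_num) (by norm_num) s7 s11 (by norm_num) (by norm_num) k11
  have a2 := not_both hH (p := 7) (q := 13) (by norm_num) (by norm_num) (by norm_num) s7 s13 (by norm_num) (by norm_num)
    fun s hs => (k13 s hs).1
  have a3 := not_both hH (p := 11) (q := 13) (by norm_num) (by norm_num) (by norm_num) s11 s13 (by norm_num) (by norm_num)
    fun s hs => (k13 s hs).2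
  have fin : ∀ p q m : ℕ, p.Prime → q.Prime → ¬ p ∣ Nat.card H → ¬ q ∣ Nat.card H →
      3 ^ 13 * (448345497600 * 2) = p * (q * m) → 0 < m → Nat.card H ≤ m := by
    intro p q m hp hq h1 h2 e hm
    rw [e] at hd
    exact Nat.le_of_dvd hm ((((Nat.Prime.coprime_iff_not_dvd hq).2 h2).symm).dvd_of_dvd_mul_left
      ((((Nat.Prime.coprime_iff_not_dvd hp).2 h1).symm).dvd_of_dvd_mul_left hd))
  by_cases h7 : 7 ∣ Nat.card H
  · exact (fin 11 13 9997308234547200 (by norm_num) (by norm_num) (a1 h7) (a2 h7) (by norm_num) (by norm_num)).trans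
      (by norm_num)
  by_cases h11 : 11 ∣ Nat.card H
  · exact (fin 7 13 15710055797145600 (by norm_num) (by norm_num) h7 (a3 h11) (by norm_num) (by norm_num)).trans
      (by norm_num)
  · exact fin 7 11 _ (by norm_num) (by norm_num) h7 h11 (by norm_num) (by norm_num)

theorem cen_M {F : Subgroup MG} (hF : IsPGroup 3 F) :
    ∃ x, F ≤ centralizer {x} ∧ Cen3 (3 ^ 28) 18566429578444800 x := by
  have := finite
  have hp : Fact (Nat.Prime 3) := ⟨Nat.prime_three⟩
  obtain ⟨x, hx, hfr, hf⟩ := H31.TwoCyc.MPart.exists_full3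
  obtain ⟨c, hc⟩ := H740.OreM.ThreeBd.exists_conj_le hf hF
  obtain ⟨N, hD⟩ := H740.OreM.ThreeBd.exists_SD hx hfr
  have hxo : orderOf (x : MG) = 3 := by rw [Subgroup.orderOf_coe, hx]
  have C : Cen3 (3 ^ 28) 18566429578444800 (x : MG) := by
    refine ⟨hxo, fun F Z h1 h2 h3 h4 h5 => ?_, fun H hH hle => sol_M hH
      ((card_dvd_of_le hle).trans (H199.AbMon.three_zero' hx hfr))⟩
    have := hD.rad.nN
    have := hD.simple
    have h6 := fz_of hxo N _ rfl (fun n hn m hm => ?_) hD.cen (k := 7) ?_ F Z h1 h2 h3 h4 h5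
    · rw [hD.cardN] at h6
      exact h6.trans (by norm_num)
    · obtain ⟨i, hi⟩ := hD.rad.comm (by norm_num) hn hm
      rw [hi, hD.rad.xzc, mul_inv_cancel_right]
      exact zpow_mem (mem_zpowers _) i
    · intro h7
      have h8 := H199.AbMon.three_zero' hx hfr
      rw [← N.card_mul_index, hD.cardN] at h8
      exact absurd (h7.trans (Nat.dvd_of_mul_dvd_mul_left (by norm_num) h8)) (by norm_num)
  refine ⟨_, fun t ht => ?_, C.map (MulAut.conj c⁻¹)⟩
  have h1 := mem_centralizer_singleton_iff.1 (hc t ht)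
  rw [mem_centralizer_singleton_iff, MulAut.conj_apply]
  calc t * (c⁻¹ * x * c⁻¹⁻¹) = c⁻¹ * (c * t * c⁻¹ * x) * c := by group
    _ = _ := by rw [h1]; group

theorem dat_M : Dat MG (3 * 1255205709190661721292800) (2 * 10 ^ 15) (3 ^ 7) (5 ^ 9) (3 ^ 28) 18566429578444800 where
  three := fun _ hc => cent_three_le known hc
  five := fun _ hp h5 => cent_big_le known hp h5 rfl
  part := by
    intro c hp h5 j hj
    obtain ⟨n, h1, h2⟩ := cent_all known hp (by omega) (rfl : orderOf c = _)
    have h3 : ∀ e ∈ tabE ++ tabO, 5 ≤ e.1 → ¬ 3 ^ 8 ∣ e.2 := by decide +kernel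
    refine Nat.pow_le_pow_right (by norm_num) ?_
    by_contra hcon
    exact h3 _ h1 h5 ((pow_dvd_pow 3 (by omega)).trans (hj.trans h2))
  pow := by
    intro p j hp h5 hj
    rcases Nat.eq_zero_or_pos j with rfl | h0
    · norm_num
    have h1 := H58.MonBnd.mem_primes hp h5 ((dvd_pow_self p h0.ne').trans hj)
    have h2 : ∀ p ∈ [5, 7, 11, 13, 17, 19, 23, 29, 31, 41, 47, 59, 71], ¬ p ^ 10 ∣ NM ∧
        ∀ j < 10, p ^ j ∣ NM → p ^ j ≤ 5 ^ 9 := by decide +kernel
    rw [card_M] at hj
    refine (h2 p h1).2 j ?_ hj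
    by_contra hcon
    exact (h2 p h1).1 ((pow_dvd_pow p (by omega)).trans hj)
  cen := fun _ hF => cen_M hF
  le := by norm_num
  num1 := by rw [card_M]; norm_num
  num2 := by rw [card_M]; norm_num

theorem nc_of_card {G : Type*} [Group G] [IsSimpleGroup G] (h : 4 ∣ Nat.card G) : ¬ IsMulCommutative G := by
  intro hc
  have h1 : (Nat.card G).Prime := by
    let _ : CommGroup G := { (inferInstance : Group G) with mul_comm := hc.is_comm.comm }
    exact IsSimpleGroup.prime_card
  rcases h1.eq_one_or_self_of_dvd 2 (Dvd.dvd.trans (by norm_num) h) with h2 | h2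
  · omega
  · rw [← h2] at h
    omega

/-- **The Monster, `O₂(S) = 1`.** -/
theorem rowN_M (K : Type) [Group K] (h : Spor.IsoM K) : RowN 2 K := by
  have := finite
  have := simple
  obtain ⟨e1⟩ := h
  obtain ⟨e2⟩ := MonsterP.Equiv.equiv
  have hM : ¬ IsMulCommutative MG := nc_of_card (by rw [card_M]; norm_num)
  have e3 : Spor.Monster ≃* MG := e2
  have : IsSimpleGroup Spor.Monster := e3.isSimpleGroup
  have : Finite Spor.Monster := Finite.of_equiv _ e3.symm.toEquiv
  have hM' : ¬ IsMulCommutative Spor.Monster := nc_of_card (by rw [Nat.card_congr e3.toEquiv, card_M]; norm_num)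
  refine RowN.of_equiv e1 (rowN_of_top hM' S2085.result ?_)
  apply RowNIn.of_map e3.toMonoidHom e3.injective
  rw [map_top_of_surjective _ e3.surjective]
  exact dat_M.rowNIn (as_top hM)

end Cfsg.Agent.SB.Mon
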