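import Cfsg.Agent.SB.Mon.M
import Cfsg.Agent.H604.RB.ThreeB
import Cfsg.Agent.H243.BKillB
import Cfsg.Agent.H705.OreB.Small
import Cfsg.Agent.H630.OreB.Cent
import Cfsg.Agent.BMx.Loc5
import Cfsg.Agent.S2084
import Cfsg.Agent.S1704

/-!
# S5765: the Baby Monster, `O₂(S) = 1` (helper96)

`rowN_B : Spor.IsoB K → RowN 2 K`.
-/

set_option autoImplicit false
set_option maxRecDepth 100000

namespace Cfsg.Agent.SB.Mon

open Subgroup Cfsg Cfsg.Agent.H863.U33 Cfsg.Agent.H604.RB.ThreeB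
open Cfsg.Agent.H819.U33 (g)

theorem comm_step {G : Type*} [Group G] {y b : G} {X : Set G} (hX : ∀ a ∈ X, a * y = y * a)
    (h : ∀ a ∈ X, a * b * a⁻¹ * b⁻¹ ∈ zpowers y) : ∀ a ∈ closure X, a * b * a⁻¹ * b⁻¹ ∈ zpowers y := by
  have hc : ∀ a ∈ closure X, ∀ z ∈ zpowers y, a * z * a⁻¹ ∈ zpowers y := by
    intro a ha z hz
    have h1 : a ∈ centralizer {y} := (closure_le _).2 (fun a ha => mem_centralizer_singleton_iff.2 (hX a ha)) ha
    obtain ⟨k, rfl⟩ := mem_zpowers_iff.1 hz
    rw [((show Commute a y from mem_centralizer_singleton_iff.1 h1).zpow_right k).eq, mul_inv_cancel_right]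
    exact hz
  intro a ha
  induction ha using closure_induction with
  | mem a ha => exact h a ha
  | one => simp
  | mul a a' ha ha' h1 h2 =>
    have e : a * a' * b * (a * a')⁻¹ * b⁻¹ = a * (a' * b * a'⁻¹ * b⁻¹) * a⁻¹ * (a * b * a⁻¹ * b⁻¹) := by group
    rw [e]
    exact mul_mem (hc a ha _ h2) h1
  | inv a ha h1 =>
    have e : a⁻¹ * b * a⁻¹⁻¹ * b⁻¹ = a⁻¹ * (a * b * a⁻¹ * b⁻¹)⁻¹ * a⁻¹⁻¹ := by group
    rw [e]
    exact hc _ (inv_mem ha) _ (inv_mem h1)

theorem comm_closure {G : Type*} [Group G] {y : G} {X : Set G} (hX : ∀ a ∈ X, a * y = y * a)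
    (h : ∀ a ∈ X, ∀ b ∈ X, a * b * a⁻¹ * b⁻¹ ∈ zpowers y) :
    ∀ a ∈ closure X, ∀ b ∈ closure X, a * b * a⁻¹ * b⁻¹ ∈ zpowers y := by
  intro a ha b hb
  refine comm_step hX (fun c hc => ?_) a ha
  have h1 := inv_mem (comm_step hX (fun d hd => h d hd c hc) b hb)
  have e : (b * c * b⁻¹ * c⁻¹)⁻¹ = c * b * c⁻¹ * b⁻¹ := by group
  rwa [e] at h1

theorem comm_PP {G : Type*} [Group G] {y : G} {e : Fin 8 → G} {t : G} {w : Fin 6 → G} {k : Fin 2 → G} {n : G}
    (h : TB y e t w k n) : ∀ a ∈ PP y e, ∀ b ∈ PP y e, a * b * a⁻¹ * b⁻¹ ∈ zpowers y := by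
  refine comm_closure ?_ ?_
  · rintro _ (rfl | ⟨j, rfl⟩)
    exacts [rfl, h.ey j]
  · rintro _ (rfl | ⟨i, rfl⟩) _ (rfl | ⟨j, rfl⟩)
    · simp
    · rw [← h.ey j]; simp
    · rw [h.ey i]; simp
    · rw [h.ee i j, mul_inv_cancel_right, mul_inv_cancel_right]
      exact pow_mem (mem_zpowers _) _

theorem sol_le_half {G : Type*} [Group G] [Finite G] {C H : Subgroup G} (hC : ¬ Group.IsSolvable C)
    (hH : Group.IsSolvable H) (hle : H ≤ C) : 2 * Nat.card H ≤ Nat.card C := by
  obtain ⟨m, hm⟩ := card_dvd_of_le hle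
  have h0 : 0 < Nat.card C := Nat.card_pos
  have h1 : m ≠ 1 := by
    rintro rfl
    rw [← eq_of_le_of_card_ge hle (by omega)] at hC
    exact hC hH
  have h2 : m ≠ 0 := by
    rintro rfl
    omega
  rw [hm, mul_comm]
  exact Nat.mul_le_mul_left _ (by omega)

theorem cen3_y : Cen3 (3 ^ 18) 32651735040 (g wy1) := by
  have := finG
  obtain ⟨-, -, hnorm, -, -⟩ := H604.U33.StIm.stC' stNF stO tb card_y_le
  have hle : PP (g wy1) eG ≤ centralizer {g wy1} := fun u hu => H757.U33.KK_le_cent (k := kG) tb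
    (H757.U33.OO_le_KK (H757.U33.UU_le_OO (H757.U33.PP_le_UU hu)))
  refine ⟨order_y, fun F Z h1 h2 h3 h4 h5 => ?_, fun H hH h1 => ?_⟩
  · have hn : ((PP (g wy1) eG).subgroupOf (centralizer {g wy1})).Normal := ⟨fun p hp c => by
      have hc := mem_centralizer_singleton_iff.1 (inv_mem c.2)
      have := (hnorm (c : H819.U33.G)⁻¹ (Or.inl (by rw [mul_assoc, ← hc, inv_mul_cancel_left]))).1 _ (mem_subgroupOf.1 hp)
      rw [inv_inv] at this
      exact mem_subgroupOf.2 this⟩
    have hc : Nat.card ((PP (g wy1) eG).subgroupOf (centralizer {g wy1})) = 3 ^ 9 := by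
      rw [Nat.card_congr (subgroupOfEquivOfLe hle).toEquiv, (stNF tb).2.2]
    let y' : centralizer ({g wy1} : Set H819.U33.G) := ⟨g wy1, mem_centralizer_singleton_iff.2 rfl⟩
    have hz : ∀ s : centralizer ({g wy1} : Set H819.U33.G), (s : H819.U33.G) ∈ zpowers (g wy1) → s ∈ zpowers y' := by
      intro s hs
      obtain ⟨k, hk⟩ := mem_zpowers_iff.1 hs
      exact mem_zpowers_iff.2 ⟨k, Subtype.ext hk⟩
    have h6 := fz_of order_y _ y' rfl
      (fun n hn m hm => hz _ (comm_PP tb _ (mem_subgroupOf.1 hn) _ (mem_subgroupOf.1 hm)))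
      (fun s _ hs => hz _ (H604.U33.CentP.cent_PP stNF stAct stO tb card_y_le fun p hp =>
        (congrArg Subtype.val (hs ⟨p, hle hp⟩ (mem_subgroupOf.2 hp))).symm)) (k := 4) ?_ F Z h1 h2 h3 h4 h5
    · rw [hc] at h6
      exact h6.trans (by norm_num)
    · have h7 := ((PP (g wy1) eG).subgroupOf (centralizer {g wy1})).card_mul_index
      rw [hc, card_y] at h7
      omega
  · have h2 := sol_le_half (H243.BKillB.cent_b isoG order_y) hH h1
    rw [card_y] at h2
    omega

theorem dat_B : Dat H819.U33.G 387370509926400 443520000 564480 (5 ^ 6) (3 ^ 18) 32651735040 := by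
  have := finG
  have hcard : Nat.card H819.U33.G = 4154781481226426191177580544000000 := NotCT.Orders.b isoG
  have : IsSimpleGroup H819.U33.G := by
    obtain ⟨e⟩ := isoG
    have := S1704.result.1
    exact e.isSimpleGroup
  have h7 : ∀ c : H819.U33.G, (orderOf c).Prime → 5 ≤ orderOf c → orderOf c ≠ 5 →
      Nat.card (centralizer ({c} : Set H819.U33.G)) ≤ 564480 := by
    intro c hp h5 h
    by_cases h23 : orderOf c = 23
    · rw [H630.OreB.Cent.c23 (H715.Mon.Grp.sThree BMx.engBase) isoG h23]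
      norm_num
    · refine H705.OreB.Small.le_small BMx.engBase isoG hp ?_ h23 rfl
      have : orderOf c ≠ 6 := fun h6 => absurd (h6 ▸ hp) (by norm_num)
      omega
  refine ⟨fun c hc => H186.U33.card_three isoG hc, fun c hp h5 => ?_, fun c hp h5 j hj => ?_, fun p j hp h5 hj => ?_,
    fun F hF => ?_, by norm_num, by rw [hcard]; norm_num, by rw [hcard]; norm_num⟩
  · by_cases h : orderOf c = 5
    · rcases BMx.Loc5.five_cases isoG h with h1 | h1 | h1
      · have := Nat.le_of_dvd (by norm_num) h1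
        omega
      · have := Nat.le_of_dvd (by norm_num) h1
        omega
      · omega
    · exact (h7 c hp h5 h).trans (by norm_num)
  · by_cases h : orderOf c = 5
    · have h1 : j ≤ 3 := by
        by_contra hcon
        have h2 : 3 ^ 4 ∣ Nat.card (centralizer ({c} : Set H819.U33.G)) * 2 :=
          ((pow_dvd_pow 3 (by omega)).trans hj).trans (dvd_mul_right _ _)
        rcases H810.RIM.BCent.five_dvd isoG h with h3 | h3 | h3 <;> exact absurd (h2.trans h3) (by norm_num)
      exact (Nat.pow_le_pow_right (by norm_num) h1).trans (by norm_num)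
    · exact (Nat.le_of_dvd Nat.card_pos hj).trans (h7 c hp h5 h)
  · rcases Nat.eq_zero_or_pos j with rfl | h0
    · norm_num
    rw [hcard] at hj
    have h2 : ∀ p ∈ [5, 7, 11, 13, 17, 19, 23, 31, 47], ¬ p ^ 7 ∣ 4154781481226426191177580544000000 ∧
        ∀ j < 7, p ^ j ∣ 4154781481226426191177580544000000 → p ^ j ≤ 5 ^ 6 := by decide +kernel
    have h1 : p ∈ [5, 7, 11, 13, 17, 19, 23, 31, 47] := by
      have := H705.OreB.Small.primes hp ((dvd_pow_self p h0.ne').trans hj)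
      simp only [List.mem_cons, List.not_mem_nil, or_false]
      omega
    refine (h2 p h1).2 j ?_ hj
    by_contra hcon
    exact (h2 p h1).1 ((pow_dvd_pow p (by omega)).trans hj)
  · have hp : Fact (Nat.Prime 3) := ⟨Nat.prime_three⟩
    obtain ⟨c, hc⟩ := H740.OreM.ThreeBd.exists_conj_le (x := g wy1) (fun k hk => by
      rw [card_y]
      refine (pow_dvd_pow 3 (?_ : k ≤ 13)).trans (by norm_num)
      by_contra hcon
      rw [hcard] at hk
      exact absurd ((pow_dvd_pow 3 (by omega : 14 ≤ k)).trans hk) (by norm_num)) hF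
    refine ⟨_, fun t ht => ?_, cen3_y.map (MulAut.conj c⁻¹)⟩
    have h1 := mem_centralizer_singleton_iff.1 (hc t ht)
    rw [mem_centralizer_singleton_iff, MulAut.conj_apply]
    calc t * (c⁻¹ * g wy1 * c⁻¹⁻¹) = c⁻¹ * (c * t * c⁻¹ * g wy1) * c := by group
      _ = _ := by rw [h1]; group

/-- **The Baby Monster, `O₂(S) = 1`.** -/
theorem rowN_B (K : Type) [Group K] (h : Spor.IsoB K) : RowN 2 K := by
  have := finG
  obtain ⟨e1⟩ := h
  obtain ⟨e2⟩ := isoG
  have := S1704.result.1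
  have : IsSimpleGroup H819.U33.G := e2.isSimpleGroup
  have hM : ¬ IsMulCommutative H819.U33.G := nc_of_card (by rw [NotCT.Orders.b isoG]; norm_num)
  have hM' : ¬ IsMulCommutative Spor.BabyMonster := nc_of_card (by rw [S1704.result.2]; norm_num)
  refine RowN.of_equiv e1 (rowN_of_top hM' S2084.result ?_)
  apply RowNIn.of_map e2.symm.toMonoidHom e2.symm.injective
  rw [map_top_of_surjective _ e2.symm.surjective]
  exact dat_B.rowNIn (as_top hM)

end Cfsg.Agent.SB.Mon
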